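import Cfsg.Agent.H855.Spr.L34
import Cfsg.Agent.H97.Der.L34

/-!
# Facts on `PSL(3,4)` for the rows of S4816 (helper425)

* `two_seven` : two conjugate elements of order 7 which generate;
* `n1_h`, ... : two elements acting on the Sylow 3-subgroup `⟨h, c⟩` as generators of a quaternion group;
* centralizers, normalizers and classes of elements of order 5 and 7.
-/

set_option autoImplicit false
set_option linter.unusedVariables false

namespace Cfsg.Agent.H425.RIM.L34

open Subgroup
open Cfsg.Agent.SporadicA.FieldFour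
open Cfsg.Agent.ONType.Psl
open Cfsg.Agent.H855.Spr.L34

/-- the elements -/
def hh' : PSL3 := ev hl

/-- the cyclic permutation -/
def cc' : PSL3 := ev cl

/-- the element of order seven -/
def x7 : PSL3 := ev f7

/-- the conjugating letter -/
def gl : List Lt := [(.r12, .w)]

/-- the conjugating element -/
def g7 : PSL3 := ev gl

/-- generators -/
def L7 : ℕ → List Lt
  | 0 => f7
  | _ => gl ++ f7 ++ gl.reverse

theorem w_ok : chk (fl L7 [(0, true), (0, true), (1, true), (0, false), (1, false), (0, false), (1, true)]) (G 0) = true ∧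
    chk (fl L7 [(1, false), (0, true), (0, true), (1, true), (1, true), (1, true), (0, false), (0, false), (1, true),
      (0, false)]) hl = true ∧
    chk (fl L7 [(1, false), (0, true), (1, true), (0, true), (1, false)]) cl = true := by
  decide +kernel

/-- **Two elements of order seven generate.** -/
theorem two_seven {K : Subgroup PSL3} (h : x7 ∈ K) (h' : g7 * x7 * g7⁻¹ ∈ K) : K = ⊤ := by
  have h1 : ∀ k, ev (L7 k) ∈ K
    | 0 => h
    | (k + 1) => by
      have e : ev (L7 (k + 1)) = g7 * x7 * g7⁻¹ := by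
        show ev (gl ++ f7 ++ gl.reverse) = _
        rw [ev_append, ev_append, ev_reverse]
        rfl
      rw [e]
      exact h'
  obtain ⟨w1, w2, w3⟩ := w_ok
  refine top_of ?_ ?_ ?_
  · rw [← ev_eq w1]; exact fl_mem h1 _
  · rw [← ev_eq w2]; exact fl_mem h1 _
  · rw [← ev_eq w3]; exact fl_mem h1 _

theorem x7_pow : x7 ^ 7 = 1 := by
  have h := ev_eq (l := pw f7 7) (l' := []) (by decide +kernel)
  rw [ev_pw] at h
  exact h

theorem x7_ne : x7 ≠ 1 := by
  intro h
  have h1 : (⊥ : Subgroup PSL3) = ⊤ := two_seven (by rw [h]; exact one_mem _) (by rw [h]; simp)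
  have h2 : t 0 2 1 ∈ (⊥ : Subgroup PSL3) := by rw [h1]; exact mem_top _
  exact t02_ne (mem_bot.1 h2)

/-- first element of the normalizer of the Sylow 3-subgroup -/
def l1 : List Lt := [(.r01, .o), (.r12, .o), (.r10, .w), (.r20, .o), (.r01, .o)]

/-- second element of the normalizer of the Sylow 3-subgroup -/
def l2 : List Lt := [(.r01, .o), (.r12, .w), (.r20, .w), (.r12, .o), (.r01, .o)]

/-- first element of the normalizer of the Sylow 3-subgroup -/
def n1 : PSL3 := ev l1

/-- second element of the normalizer of the Sylow 3-subgroup -/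
def n2 : PSL3 := ev l2

theorem n_ok : chk (hl ++ l1) (l1 ++ cl) = true ∧ chk (cl ++ l1) (l1 ++ hl ++ hl) = true ∧
    chk (hl ++ l2) (l2 ++ hl ++ cl) = true ∧ chk (cl ++ l2) (l2 ++ hl ++ cl ++ cl) = true := by
  decide +kernel

theorem n1_h : hh' * n1 = n1 * cc' := by
  have h := ev_eq n_ok.1
  rwa [ev_append, ev_append] at h

theorem n1_c : cc' * n1 = n1 * hh' * hh' := by
  have h := ev_eq n_ok.2.1
  rwa [ev_append, ev_append, ev_append] at h

theorem n2_h : hh' * n2 = n2 * hh' * cc' := by
  have h := ev_eq n_ok.2.2.1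
  rwa [ev_append, ev_append, ev_append] at h

theorem n2_c : cc' * n2 = n2 * hh' * cc' * cc' := by
  have h := ev_eq n_ok.2.2.2
  rwa [ev_append, ev_append, ev_append, ev_append] at h

theorem hc_comm : hh' * cc' = cc' * hh' := hc

theorem h_cube : hh' ^ 3 = 1 := h3

theorem c_cube : cc' ^ 3 = 1 := c3

theorem h_ne : hh' ≠ 1 := by
  intro h
  have h1 := el3_eq_one (i := 1) (j := 0) (k := 0) (by
    unfold el3
    have : ev hl = 1 := h
    rw [this]
    simp)
  omega

/-! ### Orders and centralizers -/

theorem hF : Cfsg.Agent.H97.Der.F4 F4 := Cfsg.Agent.H97.Der.f4_of (by decide)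

theorem card : Nat.card PSL3 = 20160 := Cfsg.Agent.H97.Der.card_T3 hF

instance finite : Finite PSL3 := Nat.finite_of_card_ne_zero (by rw [card]; norm_num)

theorem orders (g : PSL3) : orderOf g = 1 ∨ orderOf g = 2 ∨ orderOf g = 3 ∨ orderOf g = 4 ∨ orderOf g = 5 ∨
    orderOf g = 7 := Cfsg.Agent.H97.Der.orders hF g

theorem orderOf_x7 : orderOf x7 = 7 := by
  have : Fact (Nat.Prime 7) := ⟨by norm_num⟩
  exact orderOf_eq_prime x7_pow x7_ne

theorem card_norm_x7 : Nat.card (normalizer ((zpowers x7 : Subgroup PSL3) : Set PSL3)) = 21 :=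
  Cfsg.Agent.H97.Der.card_norm_seven hF _ (by rw [Nat.card_zpowers, orderOf_x7])

end Cfsg.Agent.H425.RIM.L34
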