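import Cfsg.Agent.H306.RIM.Tool
import Cfsg.Agent.H243.RIM.Cls
import Cfsg.Agent.H425.RIM.L34Grp
import Cfsg.Agent.S2088

/-!
# S4816, row `L₃(4)`, `p = 5` (helper425)

`nball_five` : `NBall 5 S` for `S ≃ PSL(3,4)`: five classes of elements of order prime to 48, `5 > 2 + 4 / 2`.
-/

set_option autoImplicit false

namespace Cfsg.Agent.H425.RIM.L34Five

open Subgroup Cfsg.Agent.H306.RIM Cfsg.Agent.H665.RIM Cfsg.Agent.H425.RIM.L34
open Cfsg.Agent.SporadicA.FieldFour
open Cfsg.Agent.ONType.Psl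

universe u

variable {S : Type u} [Group S]

theorem card_of (e : S ≃* PSL3) : Nat.card S = 20160 := (Nat.card_congr e.toEquiv).trans L34.card

theorem orders_of (e : S ≃* PSL3) (g : S) : orderOf g = 1 ∨ orderOf g = 2 ∨ orderOf g = 3 ∨ orderOf g = 4 ∨
    orderOf g = 5 ∨ orderOf g = 7 := by
  rw [← MulEquiv.orderOf_eq e g]
  exact L34.orders (e g)

/-- centralizers and normalizers of elements of order 5 and 7 -/
theorem cent_norm (e : S ≃* PSL3) {p k : ℕ} (hpk : (p = 5 ∧ k = 2) ∨ (p = 7 ∧ k = 3)) {y : S} (hy : orderOf y = p) :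
    Nat.card (centralizer ({y} : Set S)) = p ∧
      Nat.card (normalizer ((zpowers y : Subgroup S) : Set S)) = Nat.card (centralizer ({y} : Set S)) * k := by
  have hcard := card_of e
  have hfin : Finite S := Nat.finite_of_card_ne_zero (by rw [hcard]; norm_num)
  have hp : p.Prime := by rcases hpk with ⟨rfl, -⟩ | ⟨rfl, -⟩ <;> norm_num
  have : Fact p.Prime := ⟨hp⟩
  have hsq : ¬ p ^ 2 ∣ Nat.card S := by
    rw [hcard]
    rcases hpk with ⟨rfl, -⟩ | ⟨rfl, -⟩ <;> norm_num
  have hc := Cfsg.Agent.H243.RIM.card_centralizer hy hsq (fun g q hq _ h => by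
    have h1 := orders_of e g
    rw [h] at h1
    have h2 := hq.two_le
    rcases hpk with ⟨rfl, -⟩ | ⟨rfl, -⟩ <;> omega)
  refine ⟨hc, ?_⟩
  obtain ⟨w, hw, hN, hi, hci⟩ := Cfsg.Agent.H306.QA.exists_card_normalizer' hp hy hsq
  rw [hc, hcard] at hci
  rw [hN]
  congr 1
  set s := (normalizer ((zpowers y : Subgroup S) : Set S)).index with hs
  rcases hpk with ⟨rfl, rfl⟩ | ⟨rfl, rfl⟩
  · have hle : w ≤ 4 := Nat.le_of_dvd (by norm_num) hw
    interval_cases w <;> omega
  · have hle : w ≤ 6 := Nat.le_of_dvd (by norm_num) hw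
    interval_cases w <;> omega

/-- the order of the kernel of a perfect central extension divides 48 -/
theorem ker_dvd_48 (e : S ≃* PSL3) {E : Type u} [Group E] (π : E →* S) (hπ : Function.Surjective π)
    (hc : π.ker ≤ center E) (hE : commutator E = ⊤) : Nat.card π.ker ∣ 48 := by
  have hk : (e.toMonoidHom.comp π).ker = π.ker := by
    ext x
    rw [MonoidHom.mem_ker, MonoidHom.mem_ker, MonoidHom.comp_apply]
    change e _ = 1 ↔ _
    rw [map_eq_one_iff _ e.injective]
  have h := H95.StemCover.card_ker_dvd (Cfsg.Agent.S2088.result (F := F4) (by decide)) hE (e.toMonoidHom.comp π)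
    (e.surjective.comp hπ) (by rw [hk]; exact hc)
  rw [hk, Nat.card_congr Multiplicative.toAdd, Nat.card_prod, Nat.card_prod, Nat.card_zmod, Nat.card_zmod] at h
  exact h

/-- **The row `L₃(4)`, `p = 5`.** -/
theorem nball_five (e : S ≃* PSL3) : NBall 5 S := by
  have hcard := card_of e
  have hfin : Finite S := Nat.finite_of_card_ne_zero (by rw [hcard]; norm_num)
  have f5 : Fact (Nat.Prime 5) := ⟨by norm_num⟩
  have f7 : Fact (Nat.Prime 7) := ⟨by norm_num⟩
  intro m hm2 hm5
  by_cases h48 : m ∣ 48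
  · obtain ⟨u, hu⟩ := exists_prime_orderOf_dvd_card' (G := S) 5 (by rw [hcard]; norm_num)
    obtain ⟨a, ha⟩ := exists_prime_orderOf_dvd_card' (G := S) 7 (by rw [hcard]; norm_num)
    have hu2 : orderOf (u ^ 2) = 5 := ord_pow hu (by norm_num)
    have ha3 : orderOf (a ^ 3) = 7 := ord_pow ha (by norm_num)
    obtain ⟨cu, nu⟩ := cent_norm e (Or.inl ⟨rfl, rfl⟩) hu
    obtain ⟨ca, na⟩ := cent_norm e (Or.inr ⟨rfl, rfl⟩) ha
    have xu : ¬ IsConj u (u ^ 2) := not_conj hu nu (by norm_num)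
    have xa : ¬ IsConj a (a ^ 3) := not_conj ha na (by norm_num)
    have hne : ∀ x y : S, orderOf x ≠ orderOf y → ¬ IsConj x y := fun x y h h' =>
      h (Cfsg.Agent.H243.RIM.orderOf_of_conj h')
    refine nb_of_dz (p := 5) (k := 1) (w := 2) hm5 (by rw [hcard]; norm_num) hu (by rw [cu])
      (by rw [nu, cu]) (n := 5) ![1, u, u ^ 2, a, a ^ 3] ?_ ?_ (by norm_num)
    · have c5 : Nat.Coprime 5 m := Nat.Coprime.coprime_dvd_right h48 (by norm_num)
      have c7 : Nat.Coprime 7 m := Nat.Coprime.coprime_dvd_right h48 (by norm_num)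
      intro i
      fin_cases i
      · show (orderOf (1 : S)).Coprime m
        rw [orderOf_one]; exact Nat.coprime_one_left m
      · show (orderOf u).Coprime m
        rw [hu]; exact c5
      · show (orderOf (u ^ 2)).Coprime m
        rw [hu2]; exact c5
      · show (orderOf a).Coprime m
        rw [ha]; exact c7
      · show (orderOf (a ^ 3)).Coprime m
        rw [ha3]; exact c7
    · intro i j hij
      have ho : ∀ i : Fin 5, orderOf ((![1, u, u ^ 2, a, a ^ 3] : Fin 5 → S) i) = ![1, 5, 5, 7, 7] i := by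
        intro i
        fin_cases i
        · exact orderOf_one
        · exact hu
        · exact hu2
        · exact ha
        · exact ha3
      have h1 := Cfsg.Agent.H243.RIM.orderOf_of_conj hij
      rw [ho, ho] at h1
      have key : ∀ i j : Fin 5, (![1, 5, 5, 7, 7] : Fin 5 → ℕ) i = ![1, 5, 5, 7, 7] j →
          i = j ∨ (i = 1 ∧ j = 2) ∨ (i = 2 ∧ j = 1) ∨ (i = 3 ∧ j = 4) ∨ (i = 4 ∧ j = 3) := by decide
      rcases key i j h1 with h | ⟨rfl, rfl⟩ | ⟨rfl, rfl⟩ | ⟨rfl, rfl⟩ | ⟨rfl, rfl⟩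
      · exact h
      · exact absurd hij xu
      · exact absurd hij.symm xu
      · exact absurd hij xa
      · exact absurd hij.symm xa
  · intro E _ _ π hπ hcen hE hm
    exact absurd (hm ▸ ker_dvd_48 e π hπ hcen hE) h48

end Cfsg.Agent.H425.RIM.L34Five
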