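import Cfsg.Agent.H425.RIM.L34Seven
import Cfsg.Agent.H425.RIM.L34Five

/-!
# S4816, the rows `L₃(4)`, `p = 5, 7` (helper425)
-/

set_option autoImplicit false

namespace Cfsg.Agent.H425.RIM

open Cfsg Cfsg.Agent.H665.RIM

universe u v

variable {S : Type u} [Group S] {F : Type v} [Field F] [Fintype F]

theorem exists_iso (hF : Fintype.card F = 4) (h : Nonempty (S ≃* Matrix.ProjectiveSpecialLinearGroup (Fin 3) F)) :
    Nonempty (S ≃* Cfsg.Agent.ONType.Psl.PSL3) := by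
  obtain ⟨e⟩ := h
  obtain ⟨f⟩ := Cfsg.Agent.SporadicA.FieldFour.nonempty_psl_equiv (n := Fin 3) F hF
  exact ⟨e.trans f.symm⟩

/-- `L₃(4)`, `p = 5` -/
theorem l34_five (hF : Fintype.card F = 4) (h : Nonempty (S ≃* Matrix.ProjectiveSpecialLinearGroup (Fin 3) F)) :
    NBall 5 S := by
  obtain ⟨e⟩ := exists_iso hF h
  exact L34Five.nball_five e

/-- `L₃(4)`, `p = 7` -/
theorem l34_seven (hF : Fintype.card F = 4) (h : Nonempty (S ≃* Matrix.ProjectiveSpecialLinearGroup (Fin 3) F)) :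
    EK 7 S := by
  obtain ⟨e⟩ := exists_iso hF h
  exact L34Seven.ek_seven e

end Cfsg.Agent.H425.RIM
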