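import Cfsg.Agent.H425.RIM.Tool
import Cfsg.Agent.H425.RIM.Rep
import Cfsg.Agent.H425.RIM.L34Grp

/-!
# S4816, row `L₃(4)`, `p = 7` (helper425)

`ek_seven` : `EK 7 S` for `S ≃ PSL(3,4)`. No knowledge of the covers is used.
-/

set_option autoImplicit false

namespace Cfsg.Agent.H425.RIM.L34Seven

open Subgroup Cfsg.Agent.H229.RIM Cfsg.Agent.H425.RIM.Tool Cfsg.Agent.H425.RIM.L34
open Cfsg.Agent.SporadicA.FieldFour
open Cfsg.Agent.ONType.Psl
open scoped commutatorElement

theorem arith {c d : ℕ} (hd : 0 < d) (h1 : 7 ^ c * 7 ^ c ≤ 7 ^ d) (h2 : 7 ^ d ≤ 960 * 7 ^ c) (h3 : 7 ^ d ≡ 1 [MOD 5]) :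
    d = 4 := by
  have hc : c < 4 := by
    by_contra h
    push Not at h
    have h4 : 7 ^ 4 ≤ 7 ^ c := Nat.pow_le_pow_right (by norm_num) h
    have h5 : 7 ^ c * 7 ^ c ≤ 960 * 7 ^ c := h1.trans h2
    have h6 : 7 ^ c ≤ 960 := Nat.le_of_mul_le_mul_right h5 (by positivity)
    omega
  have hd7 : d < 7 := by
    by_contra h
    push Not at h
    have h4 : 7 ^ 7 ≤ 7 ^ d := Nat.pow_le_pow_right (by norm_num) h
    have h5 : 7 ^ c ≤ 7 ^ 3 := Nat.pow_le_pow_right (by norm_num) (by omega)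
    omega
  interval_cases d <;> first
    | rfl
    | (exfalso; revert h3; decide)

theorem no_sit {H V : Type*} [Group H] [Finite H] [AddCommGroup V] [Finite V] [DistribMulAction H V]
    {K N : Subgroup H} {φ : N →* ℂˣ} {π : H →* PSL3} (A : Sit (V := V) 7 K N φ π) : False := by
  classical
  have hp : Nat.Prime 7 := by norm_num
  have : Fact (Nat.Prime 7) := ⟨hp⟩
  obtain ⟨x, hx, hxo⟩ := A.exists_lift_p hp orderOf_x7
  obtain ⟨g, hg⟩ := A.surj g7
  have h1 := A.two_gen (x := x) (g := g) (fun L h h' => two_seven (K := L) (by rw [← hx]; exact h) (by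
    rw [map_mul, map_mul, map_inv, hx, hg] at h'; exact h'))
  have h2 := A.union hp (by rw [card]; norm_num) hxo
  have hidx : (normalizer ((zpowers (π x) : Subgroup PSL3) : Set PSL3)).index = 960 := by
    have h3 := (normalizer ((zpowers (π x) : Subgroup PSL3) : Set PSL3)).card_mul_index
    rw [hx, card_norm_x7, card] at h3
    rw [hx]
    omega
  rw [hidx] at h2
  obtain ⟨d, hd0, hd⟩ := A.card_V hp
  obtain ⟨c, -, hc⟩ := (Nat.dvd_prime_pow hp).1 (hd ▸ (fx V x).card_addSubgroup_dvd_card)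
  -- elements of order five
  have hfix : Nat.card V ≡ 1 [MOD 5] := by
    obtain ⟨w, hw⟩ := L34.hF.exists_w
    have hy := Cfsg.Agent.H97.Der.orderOf_y L34.hF hw
    obtain ⟨y, hy', j, hj⟩ := exists_lift (q := 5) A.surj (by norm_num)
      (t := Cfsg.Agent.H97.Der.pr F4 (Cfsg.Agent.H97.Der.Y5 w)) (by
        have := pow_orderOf_eq_one (Cfsg.Agent.H97.Der.pr F4 (Cfsg.Agent.H97.Der.Y5 w))
        rwa [hy] at this)
    refine card_modEq (by norm_num) hj fun v hv => ?_
    by_contra hv0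
    have h3 := A.stab_ne_top hv0
    have h4 := A.dvd_stab hp v
    refine Cfsg.Agent.H97.Der.no_thirtyfive L34.hF h3 ?_ h4
    have h5 : π y ∈ (MulAction.stabilizer H v).map π := mem_map_of_mem _ hv
    rw [hy'] at h5
    rw [← hy, ← Subgroup.orderOf_mk _ h5]
    exact orderOf_dvd_natCard _
  rw [hc, hd] at h1 h2
  rw [hd] at hfix
  have hd4 := arith hd0 h1 h2 hfix
  -- the module
  letI : Module (ZMod 7) V := AddCommGroup.zmodModule A.core.exp
  have hfr : Module.finrank (ZMod 7) V = 4 := by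
    have : Module.Finite (ZMod 7) V := Module.Finite.of_finite
    have h3 := Module.natCard_eq_pow_finrank (K := ZMod 7) (V := V)
    rw [hd, hd4, Nat.card_zmod] at h3
    exact (Nat.pow_right_injective (by norm_num : 2 ≤ 7) h3).symm
  have I : Rep.Irr4 (V := V) π := ⟨A.surj, fun k hk h => A.K_cen hk h, A.core.nt, A.core.irr, hfr⟩
  have := I.finite
  obtain ⟨T, hT⟩ := I.exists_nl h_cube
  obtain ⟨U, hU⟩ := I.exists_nl c_cube
  obtain ⟨m₁, hm₁⟩ := A.surj n1
  obtain ⟨m₂, hm₂⟩ := A.surj n2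
  have hTT := I.mul hT hT rfl
  have hTU := I.mul hT hU hc_comm
  have hcc : hh' * cc' * cc' = cc' * (hh' * cc') := by
    rw [← mul_assoc, ← hc_comm]
  have hTUU := I.mul hTU hU hcc
  have hinj : ∀ (m : H) (v : V), Rep.rho m v = 0 → v = 0 := by
    intro m v h
    have h3 : m • v = 0 := h
    rwa [smul_eq_zero_iff_eq] at h3
  have h8 := Lin.eight_le (h := T) (c := U) (n₁ := Rep.rho m₁) (n₂ := Rep.rho m₂) (I.comm hT hU hc_comm) hT.1 hU.1
    (by
      intro hT1
      obtain ⟨-, -, k, a, ha, hk, hTk⟩ := hT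
      have hs : ∀ v : V, k • v = a⁻¹ • v := by
        intro v
        have h3 := congrArg (fun f : Module.End (ZMod 7) V => f v) hTk
        rw [hT1] at h3
        have h4 : v = a • (k • v) := h3
        calc k • v = a⁻¹ • (a • (k • v)) := by rw [smul_smul, inv_mul_cancel₀ ha, one_smul]
          _ = a⁻¹ • v := by rw [← h4]
      have hN : ∀ m : H, k * m * k⁻¹ * m⁻¹ ∈ N := by
        intro m
        rw [← A.core.ker]
        intro v
        have e1 : ∀ u : V, k • (m • u) = m • (k • u) := by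
          intro u
          rw [hs, hs]
          exact ((Rep.rho m : Module.End (ZMod 7) V).map_smul a⁻¹ u).symm
        rw [mul_smul, mul_smul, mul_smul, e1, smul_inv_smul, smul_inv_smul]
      have hcom : ∀ s : PSL3, hh' * s = s * hh' := by
        intro s
        obtain ⟨m, rfl⟩ := A.surj s
        have h3 : π (k * m * k⁻¹ * m⁻¹) = 1 := by
          have h4 := A.core.NK (hN m)
          rw [← A.ker] at h4
          exact h4
        rw [map_mul, map_mul, map_mul, map_inv, map_inv, hk] at h3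
        have h4 : hh' * π m * hh'⁻¹ = π m := mul_inv_eq_one.1 h3
        exact mul_inv_eq_iff_eq_mul.1 h4
      apply h_ne
      have e1 : hh' = cc' := by
        have h3 := n1_h
        rw [hcom] at h3
        exact mul_left_cancel h3
      have h3 := n1_c
      rw [← e1, hcom, mul_assoc] at h3
      have h4 := mul_left_cancel h3
      exact (mul_eq_left.1 h4.symm))
    (hinj m₁) (hinj m₂)
    (I.rel hT hU (by rw [hm₁]; exact n1_h))
    (I.rel hU hTT (by rw [hm₁, ← mul_assoc]; exact n1_c))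
    (I.rel hT hTU (by rw [hm₂, ← mul_assoc]; exact n2_h))
    (by
      have := I.rel (n := m₂) hU hTUU (by rw [hm₂, ← mul_assoc, ← mul_assoc]; exact n2_c)
      rwa [mul_assoc T U U] at this)
  omega

universe u

/-- **`EK 7` for `PSL(3,4)`.** -/
theorem ek_seven {S : Type u} [Group S] (e : S ≃* PSL3) : Cfsg.Agent.H665.RIM.EK 7 S := by
  intro H V _ _ _ _ _ K N φ π h1 h2 h3 h4
  refine no_sit (V := V) (π := e.toMonoidHom.comp π) ⟨h1, e.surjective.comp h2, ?_, h4⟩
  rw [← h3]
  ext g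
  simp [MonoidHom.mem_ker]

end Cfsg.Agent.H425.RIM.L34Seven
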